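import Cfsg.Agent.PSLDeg.Main
import Cfsg.Agent.Classical.SmallPSL

/-!
PSL(2, p^2) is determined by its multiset of character degrees.
-/

set_option autoImplicit false

namespace Cfsg.Agent.PSLDeg

open Cfsg Cfsg.Agent.Char

universe u v

variable {F : Type v} [Field F] [Fintype F] {G : Type u} [Group G] [Finite G]

local notation "PS" => Matrix.ProjectiveSpecialLinearGroup (Fin 2) F

theorem card_eq_of_equiv {S : Type*} [Group S] [Finite S] (e : IrrCharacter G ≃ IrrCharacter S)
    (he : ∀ χ, dg (e χ) = dg χ) : Nat.card G = Nat.card S := by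
  rw [← sum_dg_sq, ← sum_dg_sq (G := S)]
  exact Fintype.sum_equiv e _ _ fun χ => by rw [he]

theorem count_eq_of_equiv {S : Type*} [Group S] [Finite S] (e : IrrCharacter G ≃ IrrCharacter S)
    (he : ∀ χ, dg (e χ) = dg χ) (d : ℕ) :
    Nat.card {χ : IrrCharacter G // dg χ = d} = Nat.card {χ : IrrCharacter S // dg χ = d} :=
  Nat.card_congr (e.subtypeEquiv fun χ => by rw [he])

theorem cube_inj {X q : ℕ} (hX : 1 ≤ X) (hq : 1 ≤ q) (h : X * (X ^ 2 - 1) = q * (q ^ 2 - 1)) : X = q := by
  have key : ∀ {s t : ℕ}, 1 ≤ s → s < t → s * (s ^ 2 - 1) < t * (t ^ 2 - 1) := by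
    intro s t hs hst
    have h1 : s ^ 2 < t ^ 2 := Nat.pow_lt_pow_left hst two_ne_zero
    have h2 : 1 ≤ s ^ 2 := Nat.one_le_pow _ _ hs
    exact Nat.mul_lt_mul_of_le_of_lt hst.le (by omega) (by omega)
  rcases Nat.lt_trichotomy X q with hlt | heq | hgt
  · exact absurd h (key hX hlt).ne
  · exact heq
  · exact absurd h.symm (key hq hgt).ne

/-- The odd case. -/
theorem recog_odd {p : ℕ} (hp : p.Prime) (hp2 : p ≠ 2) (hF : Fintype.card F = p ^ 2)
    (e : IrrCharacter G ≃ IrrCharacter PS) (he : ∀ χ, dg (e χ) = dg χ) :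
    Nonempty (G ≃* PS) := by
  classical
  haveI := Fact.mk hp
  haveI : CharP F p := charP_of_card_eq_prime_pow hF
  obtain ⟨k, hk⟩ : Odd p := hp.odd_of_ne_two hp2
  have hk1 : 1 ≤ k := by have := hp.two_le; omega
  set q := Fintype.card F with hq
  obtain ⟨a, hqa, hae, ha4⟩ : ∃ a, q = 2 * a + 1 ∧ Even a ∧ 4 ≤ a :=
    ⟨2 * (k * k + k), by rw [hF, hk]; ring, even_two_mul _, by nlinarith⟩
  obtain ⟨a', ha'⟩ := hae
  have hgcd : Nat.gcd 2 (q - 1) = 2 := Nat.gcd_eq_left ⟨a, by omega⟩
  have hqq : q ^ 2 - 1 = 4 * a * (a + 1) := by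
    have : q ^ 2 = 4 * a * (a + 1) + 1 := by rw [hqa]; ring
    omega
  have hcardS := Classical.A5InPSL.card_psl (F := F)
  rw [← hq, hgcd, hqq] at hcardS
  have hcard : Nat.card G = 2 * a * (a + 1) * q := by
    rw [card_eq_of_equiv e he]
    refine Nat.eq_of_mul_eq_mul_left two_pos (hcardS.trans ?_)
    ring
  have hdeg := fun φ => psl_degrees (F := F) (by omega) (by omega) φ
  have hdata : Data G p q a (a + 1) :=
    { prime := hp, hq := hF, hqa := hqa, hb := rfl, ha := ⟨a', ha'⟩, ha4 := ha4, card := hcard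
      one := (count_eq_of_equiv e he 1).trans (card_dg_one (psl_perfect (by omega)))
      st := (count_eq_of_equiv e he q).trans
        (psl_card_steinberg hp hF (by omega) (S4765.result p F (by omega)).2)
      deg := fun χ => by
        have := hdeg (e χ)
        rw [he] at this
        show dg χ = 1 ∨ dg χ = q ∨ dg χ = 2 * (a + 1) ∨ dg χ = 2 * a ∨ dg χ = a + 1
        omega }
  obtain ⟨K, _, _, hK, ⟨φ⟩⟩ := hdata.exists_field
  have hKq : Fintype.card K = q := by
    have hcK := Classical.A5InPSL.card_psl (F := K)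
    rw [← Nat.card_congr φ.toEquiv, hcard] at hcK
    obtain ⟨r, -, n, hr, hn⟩ := FiniteField.card' K
    rcases hr.eq_two_or_odd' with rfl | hodd
    · exfalso
      have heven : 2 ∣ Fintype.card K := hn ▸ dvd_pow_self 2 n.2.ne'
      have hg1 : Nat.gcd 2 (Fintype.card K - 1) = 1 :=
        (Nat.coprime_two_left).2 (Nat.odd_iff.2 (by omega))
      rw [hg1, one_mul] at hcK
      set X := Fintype.card K
      have hcb : Nat.Coprime X (a + 1) := by
        rw [hn]; exact Nat.Coprime.pow_left _ (Nat.coprime_two_left.2 (Nat.odd_iff.2 (by omega)))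
      have hcq : Nat.Coprime X q := by
        rw [hn]; exact Nat.Coprime.pow_left _ (Nat.coprime_two_left.2 (Nat.odd_iff.2 (by omega)))
      have hdvd : X ∣ 2 * a := hcb.dvd_of_dvd_mul_right (hcq.dvd_of_dvd_mul_right ⟨_, hcK⟩)
      obtain ⟨w, hw⟩ : ∃ w, X ^ 2 = w + 1 := ⟨X ^ 2 - 1, by have := Nat.one_le_pow 2 X (by omega); omega⟩
      rw [hw, Nat.add_sub_cancel] at hcK
      obtain ⟨j, hj⟩ := hdvd
      rcases Nat.lt_or_ge j 2 with h2 | h2
      · interval_cases j
        · omega
        · rw [mul_one] at hj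
          have e1 : w = (a + 1) * q := by
            refine Nat.eq_of_mul_eq_mul_left (show 0 < X by omega) ?_
            rw [← hcK, ← hj]; ring
          rw [← hj, e1, hqa] at hw
          nlinarith
      · have hle : X * 2 ≤ X * j := Nat.mul_le_mul le_rfl h2
        have hXa : X ≤ a := by omega
        have e2 : X * w ≤ a * a ^ 2 :=
          Nat.mul_le_mul hXa (by have := Nat.pow_le_pow_left hXa 2; omega)
        rw [← hcK, hqa] at e2
        nlinarith
    · have hg2 : Nat.gcd 2 (Fintype.card K - 1) = 2 := by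
        refine Nat.gcd_eq_left ?_
        have ho : Odd (Fintype.card K) := hn ▸ hodd.pow
        obtain ⟨j, hj⟩ := ho
        exact ⟨j, by omega⟩
      rw [hg2] at hcK
      refine cube_inj (by omega) (by omega) (hcK.symm.trans ?_)
      rw [hqq]; ring
  obtain ⟨ψ⟩ := Classical.Small.psl_congr (n := 2) (FiniteField.ringEquivOfCardEq (hKq.trans hq))
  exact ⟨φ.trans ψ⟩

/-- The case of four elements. -/
theorem recog_four (hF : Fintype.card F = 4) (e : IrrCharacter G ≃ IrrCharacter PS)
    (he : ∀ χ, dg (e χ) = dg χ) : Nonempty (G ≃* PS) := by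
  classical
  haveI := Fact.mk Nat.prime_two
  haveI : CharP F 2 := charP_of_card_eq_prime_pow (f := 2) hF
  have h2 : (2 : F) = 0 := CharTwo.two_eq_zero
  have hcardS := Classical.A5InPSL.card_psl (F := F)
  rw [hF, show Nat.gcd 2 (4 - 1) = 1 from rfl, show 4 * (4 ^ 2 - 1) = 60 from rfl, one_mul] at hcardS
  have hcard : Nat.card G = 60 := by rw [card_eq_of_equiv e he]; omega
  have hdeg : ∀ χ : IrrCharacter G, dg χ = 1 ∨ dg χ = 4 ∨ dg χ = 5 ∨ dg χ = 3 := by
    intro χ
    have hd : dg (e χ) ∈ Cfsg.charDegrees PS := ⟨e χ, rfl⟩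
    rw [he] at hd
    rcases GL2Rep.SL.degree_options (QuotientGroup.mk' _) (QuotientGroup.mk'_surjective _) hd with
      h | h | h | h | ⟨h0, -⟩ | ⟨h0, -⟩
    · omega
    · omega
    · omega
    · omega
    · exact absurd h2 h0
    · exact absurd h2 h0
  have hone := (count_eq_of_equiv e he 1).trans (card_dg_one (psl_perfect (F := F) (by omega)))
  have hst := (count_eq_of_equiv e he 4).trans
    (hF ▸ psl_card_steinberg (p := 2) Nat.prime_two (n := 2) hF (by omega) (S4765.result 2 F (by omega)).2)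
  have hsplit : ∀ T : Finset (IrrCharacter G), ∑ χ ∈ T, dg χ ^ 2 = (T.filter fun χ => dg χ = 1).card +
      16 * (T.filter fun χ => dg χ = 4).card + 25 * (T.filter fun χ => dg χ = 5).card +
      9 * (T.filter fun χ => dg χ = 3).card := by
    intro T
    have hpt : ∀ χ : IrrCharacter G, dg χ ^ 2 = (if dg χ = 1 then 1 else 0) + (if dg χ = 4 then 16 else 0) +
        (if dg χ = 5 then 25 else 0) + (if dg χ = 3 then 9 else 0) := by
      intro χ
      rcases hdeg χ with h | h | h | h <;> rw [h] <;> norm_num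
    rw [Finset.sum_congr rfl fun χ _ => hpt χ]
    simp only [Finset.sum_add_distrib, ← Finset.sum_filter, Finset.sum_const, smul_eq_mul]
    ring
  have huniv : ∀ d, Nat.card {χ : IrrCharacter G // dg χ = d} =
      (Finset.univ.filter fun χ : IrrCharacter G => dg χ = d).card := fun d => by
    rw [Nat.card_eq_fintype_card, Fintype.card_subtype]
  have htot := hsplit Finset.univ
  rw [sum_dg_sq, hcard, ← huniv 1, ← huniv 4, hone, hst] at htot
  haveI : Nontrivial G := by rw [← Finite.one_lt_card_iff_nontrivial]; omega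
  haveI : IsSimpleGroup G := by
    refine ⟨fun M hM => ?_⟩
    by_contra hne
    push Not at hne
    obtain ⟨T, hsum, hdvd, χ₁, hχ₁, hd₁⟩ := quotient_sum M
    rw [hsplit T] at hsum
    have hsub : ∀ d, (T.filter fun χ => dg χ = d).card ≤ Nat.card {χ : IrrCharacter G // dg χ = d} :=
      fun d => (huniv d).symm ▸ Finset.card_le_card (Finset.filter_subset_filter _ (Finset.subset_univ T))
    have h1 := hsub 1
    have h4 := hsub 4
    have h5 := hsub 5
    have h3 := hsub 3
    rw [huniv 5] at h5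
    rw [huniv 3] at h3
    rw [hone] at h1
    rw [hst] at h4
    have h1' : 0 < (T.filter fun χ => dg χ = 1).card := Finset.card_pos.2 ⟨χ₁, Finset.mem_filter.2 ⟨hχ₁, hd₁⟩⟩
    have hdiv : M.index ∣ 60 := hcard ▸ M.index_dvd_card
    have hi1 : M.index ≠ 1 := fun h => hne.2 (Subgroup.index_eq_one.1 h)
    have hi60 : M.index ≠ 60 := fun h => by
      refine hne.1 (Subgroup.eq_bot_of_card_eq _ ?_)
      have := M.card_mul_index
      rw [h, hcard] at this
      omega
    have hthree : 0 < (T.filter fun χ => dg χ = 3).card → 3 ∣ M.index := fun h => by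
      obtain ⟨χ, hχ⟩ := Finset.card_pos.1 h
      exact (Finset.mem_filter.1 hχ).2 ▸ hdvd χ (Finset.mem_filter.1 hχ).1
    generalize (T.filter fun χ => dg χ = 1).card = n1 at *
    generalize (T.filter fun χ => dg χ = 4).card = n4 at *
    generalize (T.filter fun χ => dg χ = 5).card = n5 at *
    generalize (T.filter fun χ => dg χ = 3).card = n3 at *
    generalize (Finset.univ.filter fun χ : IrrCharacter G => dg χ = 5).card = m5 at *
    generalize (Finset.univ.filter fun χ : IrrCharacter G => dg χ = 3).card = m3 at *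
    have hm5 : m5 = 1 := by omega
    have hm3 : m3 = 2 := by omega
    subst hm5; subst hm3
    rw [← hsum] at hdiv hi1 hi60 hthree
    interval_cases n1 <;> interval_cases n4 <;> interval_cases n5 <;> interval_cases n3 <;>
      (revert hdiv hi1 hi60 hthree; norm_num)
  obtain ⟨φ⟩ := Classical.Small.simple_sixty hcard
  obtain ⟨ψ⟩ := Classical.Small.psl_two_sixty (F := F) (Or.inl hF)
  exact ⟨φ.trans ψ.symm⟩

end Cfsg.Agent.PSLDeg
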