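import Cfsg.Agent.GL2Rep.SLParity
import Cfsg.Agent.GL2Rep.SLHalf
import Cfsg.Agent.Char.NormalAbelianSylow
import Cfsg.Agent.Classical.A5InPSL
import Cfsg.Agent.S4765

/-!
Degrees of the irreducible characters of PSL(2, q) for q the square of an odd prime, and transfer of degree
multisets between groups.
-/

set_option autoImplicit false

namespace Cfsg.Agent.PSLDeg

open Cfsg Cfsg.Agent.Char

universe u v

variable {G : Type u} [Group G] [Finite G]

/-- The natural number degree. -/
noncomputable abbrev dg (χ : IrrCharacter G) : ℕ := Cfsg.charDegree (χ : G → ℂ)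

theorem dg_spec (χ : IrrCharacter G) : (χ : G → ℂ) 1 = (dg χ : ℂ) := charDegree_spec' χ

theorem dg_pos (χ : IrrCharacter G) : 0 < dg χ := by
  refine Nat.pos_of_ne_zero fun h => IsIrr.one_ne_zero χ.2 ?_
  rw [dg_spec, h, Nat.cast_zero]

theorem sum_dg_sq : ∑ χ : IrrCharacter G, dg χ ^ 2 = Nat.card G := by
  refine Nat.cast_injective (R := ℂ) ?_
  rw [Nat.cast_sum, ← sum_sq_degree (G := G)]
  exact Finset.sum_congr rfl fun χ _ => by rw [dg_spec]; push_cast; ring

theorem deg_iff (χ : IrrCharacter G) (d : ℕ) : (χ : G → ℂ) 1 = (d : ℂ) ↔ dg χ = d := by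
  rw [dg_spec]; exact Nat.cast_inj

/-- Equal degree multisets give a degree preserving bijection. -/
theorem exists_equiv {S : Type v} [Group S] [Finite S]
    (h : ∀ d : ℕ, Nat.card {χ : IrrCharacter G // (χ : G → ℂ) 1 = (d : ℂ)} =
      Nat.card {χ : IrrCharacter S // (χ : S → ℂ) 1 = (d : ℂ)}) :
    ∃ e : IrrCharacter G ≃ IrrCharacter S, ∀ χ, dg (e χ) = dg χ := by
  have h' : ∀ d : ℕ, Nat.card {χ : IrrCharacter G // dg χ = d} =
      Nat.card {χ : IrrCharacter S // dg χ = d} := fun d => by
    rw [← Nat.card_congr (Equiv.subtypeEquivRight fun χ => deg_iff χ d), h d,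
      Nat.card_congr (Equiv.subtypeEquivRight fun χ => deg_iff χ d)]
  refine ⟨Equiv.ofFiberEquiv (f := dg) (g := dg) fun d => Classical.choice ?_, fun χ => ?_⟩
  · exact ⟨Finite.card_eq.1 (h' d) |>.some⟩
  · exact Equiv.ofFiberEquiv_map _ χ

/-- A perfect group has a single linear character. -/
theorem card_dg_one (hG : commutator G = ⊤) : Nat.card {χ : IrrCharacter G // dg χ = 1} = 1 := by
  rw [← Nat.card_congr (Equiv.subtypeEquivRight fun χ : IrrCharacter G => deg_iff χ 1)]
  simp only [Nat.cast_one]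
  rw [card_linear, hG, Subgroup.index_top]

section PSL

open Matrix

variable {F : Type u} [Field F] [Fintype F]

local notation "S2" => Matrix.SpecialLinearGroup (Fin 2) F
local notation "PS" => Matrix.ProjectiveSpecialLinearGroup (Fin 2) F

theorem exists_sq_ne_one (hq : 4 ≤ Fintype.card F) : ∃ x : F, x ≠ 0 ∧ x ^ 2 ≠ 1 := by
  classical
  by_contra hno
  push Not at hno
  have h1 : (Finset.univ : Finset F) ⊆ {0, 1, -1} := fun x _ => by
    by_cases hx : x = 0
    · simp [hx]
    · have := hno x hx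
      rw [pow_two] at this
      rcases mul_self_eq_one_iff.1 this with h | h <;> simp [h]
  have := (Finset.card_le_card h1).trans Finset.card_le_three
  rw [Finset.card_univ] at this
  omega

theorem psl_perfect (hq : 4 ≤ Fintype.card F) : commutator PS = ⊤ := by
  classical
  rw [eq_top_iff, ← Subgroup.map_top_of_surjective
    (QuotientGroup.mk' (Subgroup.center S2)) (QuotientGroup.mk'_surjective _),
    ← Classical.commutator_sl_eq_top (ι := Fin 2) (F := F) (Or.inr (exists_sq_ne_one hq)), commutator_def,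
    Subgroup.map_commutator]
  exact Subgroup.commutator_mono le_top le_top

/-- PSL(2, q) has no character of degree (q - 1) / 2 when q is one mod four. -/
theorem psl_ne_half (h4 : Fintype.card F % 4 = 1) (h5 : 5 ≤ Fintype.card F) (φ : IrrCharacter PS) :
    2 * dg φ + 1 ≠ Fintype.card F := by
  classical
  intro hd
  have h2 : (2 : F) ≠ 0 := Ring.two_ne_zero fun hc => by
    have := FiniteField.even_card_iff_char_two.1 hc
    omega
  let π : S2 →* PS := QuotientGroup.mk' _
  have hχ : IsIrrCharacter S2 (fun g => (φ : PS → ℂ) (π g)) :=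
    isIrrCharacter_comp π (QuotientGroup.mk'_surjective _) φ.2
  have hd1 : (φ : PS → ℂ) (π 1) = (((Fintype.card F - 1) / 2 : ℕ) : ℂ) := by
    rw [map_one, dg_spec]; congr 1; omega
  obtain ⟨t, ht⟩ := SL2Class.exists_noRoot (F := F)
  set g : S2 := SL2Class.comp t with hg
  have hgr : SL2Class.NoRoot (SL2Class.tr g) := by rw [hg, SL2Class.tr_comp]; exact ht
  have hngr : SL2Class.NoRoot (SL2Class.tr (-g)) := fun r hr => by
    refine hgr (-r) ?_
    rw [SL2Class.tr_neg] at hr
    linear_combination hr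
  set m := (Fintype.card F + 1) / 2 with hm
  obtain ⟨j, hj⟩ : ∃ j, m = 2 * j + 1 := ⟨m / 2, by omega⟩
  have hsq : (g ^ m) * (g ^ m) = 1 := by
    have hgn := SL2Class.nonScalar_of_sq_ne (SL2Class.sq_ne_four_of_noRoot h2 hgr)
    have hcard := SL2Class.card_cent_noRoot hgr hgn
    have h := pow_card_eq_one' (x := (⟨g, SL2Class.self_mem_cent g⟩ : Subgroup.centralizer ({g} : Set S2)))
    rw [hcard] at h
    have h' := congrArg Subtype.val h
    simp only [Subgroup.coe_pow, Subgroup.coe_one] at h'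
    rw [← pow_add, show m + m = Fintype.card F + 1 by omega]
    exact h'
  have hneg : (-g) ^ m = -1 * g ^ m := by
    have hm1 : (-1 : S2) ^ m = -1 := by
      rw [hj, pow_succ, pow_mul, pow_two, SL2Class.neg_mul_self_eq, one_pow, one_mul]
    have hcomm : Commute (-1 : S2) g := (Subgroup.mem_center_iff.1 SL2Class.neg_one_mem_center g).symm
    rw [SL2Class.neg_eq_mul, hcomm.mul_pow, hm1]
  have hne1 : (-1 : S2) ≠ 1 := SL2Class.neg_one_ne_one h2
  have heq : π (-g) = π g := by
    rw [SL2Class.neg_eq_mul, map_mul]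
    have : π (-1) = 1 := (QuotientGroup.eq_one_iff _).2 SL2Class.neg_one_mem_center
    rw [this, one_mul]
  have v1 := GL2Rep.SL.halfCusp_elliptic h2 h5 hχ hd1 hgr
  have v2 := GL2Rep.SL.halfCusp_elliptic h2 h5 hχ hd1 hngr
  rw [heq, v1, ← hm] at v2
  rcases SL2Class.sq_eq_one_cases h2 hsq with e | e
  · rw [if_pos e, hneg, e, mul_one, if_neg hne1] at v2
    norm_num at v2
  · rw [if_neg (by rw [e]; exact hne1), hneg, e, SL2Class.neg_mul_self_eq, if_pos rfl] at v2
    norm_num at v2

theorem psl_degrees (h4 : Fintype.card F % 4 = 1) (h5 : 5 ≤ Fintype.card F) (φ : IrrCharacter PS) :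
    dg φ = 1 ∨ dg φ = Fintype.card F ∨ dg φ = Fintype.card F + 1 ∨ dg φ + 1 = Fintype.card F ∨
      2 * dg φ = Fintype.card F + 1 := by
  classical
  let π : S2 →* PS := QuotientGroup.mk' _
  have hd : dg φ ∈ Cfsg.charDegrees PS := ⟨φ, rfl⟩
  rcases GL2Rep.SL.degree_options π (QuotientGroup.mk'_surjective _) hd with
    h | h | h | h | ⟨-, h⟩ | ⟨-, h⟩
  · exact Or.inl h
  · exact Or.inr (Or.inl h)
  · exact Or.inr (Or.inr (Or.inl h))
  · exact Or.inr (Or.inr (Or.inr (Or.inl h)))
  · exact Or.inr (Or.inr (Or.inr (Or.inr h)))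
  · exact absurd h (psl_ne_half h4 h5 φ)

/-- A single character of degree q. -/
theorem psl_card_steinberg {p : ℕ} (hp : p.Prime) {n : ℕ} (hF : Fintype.card F = p ^ n)
    (hq : 4 ≤ Fintype.card F) (hother : ∀ φ : IrrCharacter PS, p ∣ dg φ → dg φ = Fintype.card F) :
    Nat.card {φ : IrrCharacter PS // dg φ = Fintype.card F} = 1 := by
  classical
  haveI := Fact.mk hp
  haveI : CharP F p := charP_of_card_eq_prime_pow hF
  rw [← (S4765.result p F hq).1]
  refine Nat.card_congr (Equiv.subtypeEquivRight fun φ => ⟨fun h => ?_, hother φ⟩)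
  show p ∣ dg φ
  rw [h, hF]
  exact dvd_pow_self p fun hn => by rw [hn, pow_zero] at hF; omega

end PSL

end Cfsg.Agent.PSLDeg
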