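import Cfsg.Agent.PSLDeg.Vanish
import Cfsg.Agent.S0344
import Cfsg.Agent.Classical.SmallSimple

/-!
The Sylow p-subgroups give a Zassenhaus group of degree q + 1.
-/

set_option autoImplicit false

namespace Cfsg.Agent.PSLDeg

open Cfsg Cfsg.Agent.Char

universe u

theorem sylow_count_arith {a b q m t : ℕ} (hqa : q = 2 * a + 1) (hb : b = a + 1) (hm : 1 ≤ m)
    (h : t * (m * q + 1) = 2 * a * b) (ha : 0 < a) : m = 1 := by
  have h2 : t * (m * q + 1) = a + a * q := by rw [h, hqa, hb]; ring
  have ht : t ≤ a := by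
    by_contra hlt
    have : (a + 1) * (1 * q + 1) ≤ t * (m * q + 1) := Nat.mul_le_mul (by omega) (by nlinarith)
    nlinarith
  have hta : t = a := by
    have h3 := congrArg (· % q) h2
    simp only [mul_add, mul_one, ← mul_assoc, Nat.mul_add_mod_self_right, Nat.add_mul_mod_self_right] at h3
    rwa [Nat.mod_eq_of_lt (by omega), Nat.mod_eq_of_lt (by omega)] at h3
  subst hta
  rcases Nat.lt_or_ge m 2 with hm2 | hm2
  · omega
  · exfalso
    have : t * (2 * q + 1) ≤ t * (m * q + 1) := Nat.mul_le_mul le_rfl (by nlinarith)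
    nlinarith

variable {G : Type u} [Group G] [Finite G] {p q a b : ℕ} [Fact p.Prime]

theorem Data.card_sylow_sub (h : Data G p q a b) (P : Sylow p G) : Nat.card P = q := by
  obtain ⟨-, hcq⟩ := h.coprime_facts
  have hn : ¬ p ∣ 2 * a * b := fun hd =>
    h.prime.ne_one (Nat.eq_one_of_dvd_coprimes hcq (by rw [h.hq]; exact dvd_pow_self p two_ne_zero) hd)
  have h0 : 2 * a * b ≠ 0 := fun e => hn (by rw [e]; exact dvd_zero p)
  rw [P.card_eq_multiplicity, h.card, h.hq, Nat.factorization_mul h0 (pow_ne_zero _ h.prime.ne_zero),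
    Finsupp.add_apply, h.prime.factorization_pow, Finsupp.single_eq_same,
    Nat.factorization_eq_zero_of_not_dvd hn, zero_add]

/-- A Sylow p-subgroup is the centraliser of each of its non-trivial elements. -/
theorem Data.mem_of_commute (h : Data G p q a b) (P : Sylow p G) {x y : G} (hx : x ∈ P) (hx1 : x ≠ 1)
    (hxy : Commute x y) : y ∈ P := by
  have hpx : p ∣ orderOf x := by
    have h1 : orderOf x ∣ p ^ 2 := h.hq ▸ h.card_sylow_sub P ▸ Subgroup.orderOf_dvd_natCard (P : Subgroup G) hx
    obtain ⟨k, -, hk⟩ := (Nat.dvd_prime_pow h.prime).1 h1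
    rw [hk]
    exact dvd_pow_self p fun e => hx1 (orderOf_eq_one_iff.1 (by rw [hk, e, pow_zero]))
  have hS : IsPGroup p (Subgroup.centralizer ({x} : Set G)) := by
    rintro ⟨z, hz⟩
    have hzx : Commute x z := (Subgroup.mem_centralizer_singleton_iff.1 hz).symm
    have hord : orderOf z = p ^ (orderOf z).primeFactorsList.length := by
      refine Nat.eq_prime_pow_of_unique_prime_dvd (orderOf_pos z).ne' fun {r} hr hrz => ?_
      by_contra hrp
      set z' := z ^ (orderOf z / r)
      have hz' : orderOf z' = r := orderOf_pow_orderOf_div (orderOf_pos z).ne' hrz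
      have hco : (orderOf x).Coprime (orderOf z') := by
        rw [hz']
        refine (hr.coprime_iff_not_dvd.2 fun hd => hrp (h.prime_power_or x hpx hr hd)).symm
      have hprod := (hzx.pow_right (orderOf z / r)).orderOf_mul_eq_mul_orderOf_of_coprime hco
      refine hrp (h.prime_power_or (x * z') ?_ hr ?_)
      · rw [hprod]; exact hpx.mul_right _
      · rw [hprod, hz']; exact dvd_mul_left r _
    exact ⟨_, Subtype.ext (by rw [Subgroup.coe_pow, ← hord, pow_orderOf_eq_one, Subgroup.coe_one])⟩
  have hle : (P : Subgroup G) ≤ Subgroup.centralizer ({x} : Set G) := by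
    intro z hz
    rw [Subgroup.mem_centralizer_singleton_iff]
    have hcm := IsPGroup.isMulCommutative_of_card_eq_prime_sq (G := (P : Subgroup G)) (h.hq ▸ h.card_sylow_sub P)
    exact congrArg Subtype.val (hcm.is_comm.comm (⟨z, hz⟩ : (P : Subgroup G)) ⟨x, hx⟩)
  have := P.is_maximal' hS hle
  show y ∈ (P : Subgroup G)
  rw [← this]
  exact Subgroup.mem_centralizer_singleton_iff.2 hxy.eq.symm

omit [Finite G] [Fact p.Prime] in
theorem smul_self {P : Sylow p G} {x : G} (hx : x ∈ P) : x • P = P :=
  Sylow.smul_eq_iff_mem_normalizer.2 (Subgroup.le_normalizer hx)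

theorem Data.free (h : Data G p q a b) {P Q : Sylow p G} (hne : Q ≠ P) {x : G} (hx : x ∈ P)
    (hfix : x • Q = Q) : x = 1 := by
  by_contra hx1
  have h1 : x ∈ (P : Subgroup G) ⊓ Subgroup.normalizer (Q : Set G) :=
    ⟨hx, Sylow.smul_eq_iff_mem_normalizer.1 hfix⟩
  rw [P.isPGroup'.inf_normalizer_sylow Q] at h1
  refine hne (Sylow.ext (P.is_maximal' Q.isPGroup' fun y hy => ?_))
  have hcm := IsPGroup.isMulCommutative_of_card_eq_prime_sq (G := (P : Subgroup G)) (h.hq ▸ h.card_sylow_sub P)
  exact h.mem_of_commute Q h1.2 hx1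
    (congrArg Subtype.val (hcm.is_comm.comm (⟨x, hx⟩ : (P : Subgroup G)) ⟨y, hy⟩))

/-- There are q + 1 Sylow p-subgroups. -/
theorem Data.card_sylow (h : Data G p q a b) : Nat.card (Sylow p G) = q + 1 := by
  classical
  haveI := Fintype.ofFinite G
  obtain ⟨P⟩ : Nonempty (Sylow p G) := inferInstance
  have hburn := Nat.card_congr (MulAction.sigmaFixedByEquivOrbitsProdGroup (P : Subgroup G) (Sylow p G))
  rw [Nat.card_sigma, Nat.card_prod, h.card_sylow_sub P,
    ← Finset.add_sum_erase _ _ (Finset.mem_univ (1 : (P : Subgroup G)))] at hburn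
  have h1 : MulAction.fixedBy (Sylow p G) (1 : (P : Subgroup G)) = Set.univ := by
    ext Q; simp
  have h2 : ∀ x ∈ (Finset.univ : Finset (P : Subgroup G)).erase 1,
      Nat.card (MulAction.fixedBy (Sylow p G) x) = 1 := by
    intro x hx
    have e : MulAction.fixedBy (Sylow p G) x = {P} := by
      ext Q
      simp only [MulAction.mem_fixedBy, Set.mem_singleton_iff]
      refine ⟨fun hQ => ?_, fun hQ => by subst hQ; exact smul_self x.2⟩
      by_contra hne
      exact Finset.ne_of_mem_erase hx (Subtype.ext (h.free hne x.2 hQ))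
    rw [e]; simp
  rw [Finset.sum_congr rfl h2, Finset.sum_const, smul_eq_mul, mul_one, h1, Nat.card_congr (Equiv.Set.univ _),
    Finset.card_erase_of_mem (Finset.mem_univ _), Finset.card_univ, ← Nat.card_eq_fintype_card,
    h.card_sylow_sub P] at hburn
  have hq : q = 2 * a + 1 := h.hqa
  have hn1 : Nat.card (Sylow p G) ≠ 1 := by
    intro hn
    haveI := h.isSimple
    have hnor : (P : Subgroup G).Normal := by
      rw [← Subgroup.normalizer_eq_top_iff]
      exact Subgroup.index_eq_one.1 (P.card_eq_index_normalizer.symm.trans hn)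
    have hc := h.card_sylow_sub P
    have ha4 := h.ha4
    rcases hnor.eq_bot_or_eq_top with e | e
    · rw [show Nat.card P = Nat.card (P : Subgroup G) from rfl, e, Subgroup.card_bot] at hc; omega
    · rw [show Nat.card P = Nat.card (P : Subgroup G) from rfl, e, Subgroup.card_top, h.card] at hc
      have hb := h.hb
      have : 2 * (2 * a * b) ≤ q * (2 * a * b) := Nat.mul_le_mul (by omega) le_rfl
      nlinarith
  set k := Nat.card (Quotient (MulAction.orbitRel (P : Subgroup G) (Sylow p G)))
  obtain ⟨m, hm⟩ : ∃ m, Nat.card (Sylow p G) = m * q + 1 := by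
    refine ⟨k - 1, ?_⟩
    rw [Nat.sub_mul, one_mul]
    have : 0 < Nat.card (Sylow p G) := Nat.card_pos
    omega
  obtain ⟨t, ht⟩ : Nat.card (Sylow p G) ∣ 2 * a * b := by
    have hidx : (P : Subgroup G).index = 2 * a * b := by
      have e := (P : Subgroup G).card_mul_index
      rw [h.card, show Nat.card (P : Subgroup G) = q from h.card_sylow_sub P, mul_comm (2 * a * b) q] at e
      exact Nat.eq_of_mul_eq_mul_left (by omega) e
    exact hidx ▸ P.card_dvd_index
  have hm1 : m = 1 := by
    refine sylow_count_arith (t := t) hq h.hb ?_ (by rw [ht, hm]; ring) (by have := h.ha4; omega)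
    rcases Nat.eq_zero_or_pos m with e | e
    · exact absurd (by rw [hm, e]; simp) hn1
    · exact e
  rw [hm, hm1, one_mul]

/-- Sylow p-subgroups act transitively on the others. -/
theorem Data.exists_move (h : Data G p q a b) {P Q R : Sylow p G} (hQ : Q ≠ P) (hR : R ≠ P) :
    ∃ x ∈ P, x • Q = R := by
  classical
  haveI := Fintype.ofFinite (Sylow p G)
  let f : ↥(P : Subgroup G) → {S : Sylow p G // S ≠ P} := fun x =>
    ⟨(x : G) • Q, fun e => hQ (MulAction.injective (x : G) (e.trans (smul_self x.2).symm))⟩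
  have hf : Function.Injective f := by
    intro x y hxy
    have e : (x : G) • Q = (y : G) • Q := congrArg Subtype.val hxy
    have := h.free hQ (mul_mem (inv_mem y.2) x.2) (by rw [mul_smul, e, inv_smul_smul])
    exact Subtype.ext (inv_mul_eq_one.1 this).symm
  have hcard : Nat.card {S : Sylow p G // S ≠ P} ≤ Nat.card (P : Subgroup G) := by
    have hs := Fintype.card_subtype_compl (fun S : Sylow p G => S = P)
    rw [Fintype.card_subtype_eq] at hs
    have hn := h.card_sylow
    rw [Nat.card_eq_fintype_card] at hn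
    rw [Nat.card_eq_fintype_card, show Nat.card (P : Subgroup G) = q from h.card_sylow_sub P]
    show Fintype.card {S : Sylow p G // ¬ S = P} ≤ q
    omega
  obtain ⟨x, hx⟩ := (hf.bijective_of_nat_card_le hcard).2 ⟨R, hR⟩
  exact ⟨x, x.2, congrArg Subtype.val hx⟩

/-- Two point stabilisers have order a. -/
theorem Data.card_two (h : Data G p q a b) {P Q : Sylow p G} (hne : Q ≠ P) :
    Nat.card ↥(MulAction.stabilizer G P ⊓ MulAction.stabilizer G Q) = a := by
  set N := MulAction.stabilizer G P
  set K := N ⊓ MulAction.stabilizer G Q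
  let f : ↥(P : Subgroup G) × K → N := fun z =>
    ⟨(z.1 : G) * z.2, mul_mem (smul_self z.1.2) z.2.2.1⟩
  have hf : Function.Bijective f := by
    refine ⟨fun z w hzw => ?_, fun g => ?_⟩
    · have e : (z.1 : G) * z.2 = w.1 * w.2 := congrArg Subtype.val hzw
      have e2 := congrArg (· • Q) e
      simp only [mul_smul, MulAction.mem_stabilizer_iff.1 z.2.2.2, MulAction.mem_stabilizer_iff.1 w.2.2.2] at e2
      have := h.free hne (mul_mem (inv_mem w.1.2) z.1.2) (by rw [mul_smul, e2, inv_smul_smul])
      have e3 : (z.1 : G) = w.1 := (inv_mul_eq_one.1 this).symm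
      rw [e3, mul_right_inj] at e
      exact Prod.ext (Subtype.ext e3) (Subtype.ext e)
    · have hgP : (g : G) • P = P := g.2
      obtain ⟨x, hx, hxQ⟩ := h.exists_move hne (R := (g : G) • Q)
        fun e => hne (MulAction.injective (g : G) (e.trans hgP.symm))
      refine ⟨(⟨x, hx⟩, ⟨x⁻¹ * g, Subgroup.mem_inf.2 ⟨mul_mem (inv_mem (smul_self hx)) g.2, ?_⟩⟩),
        Subtype.ext (mul_inv_cancel_left x _)⟩
      rw [MulAction.mem_stabilizer_iff, mul_smul, ← hxQ, inv_smul_smul]
  have hc := Nat.card_eq_of_bijective f hf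
  rw [Nat.card_prod, show Nat.card (P : Subgroup G) = q from h.card_sylow_sub P] at hc
  have hN := N.card_mul_index
  rw [show N.index = q + 1 by rw [← h.card_sylow, P.card_eq_index_normalizer, ← P.stabilizer_eq_normalizer],
    h.card] at hN
  have hb := h.hb
  have hqa := h.hqa
  have e : 2 * a * b * q = (q * a) * (q + 1) := by rw [hqa, hb]; ring
  rw [e, ← hc] at hN
  exact Nat.eq_of_mul_eq_mul_left (by omega) (Nat.eq_of_mul_eq_mul_right (by omega) hN)

/-- The group with the degrees of PSL(2, q) is PSL(2) over some field. -/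
theorem Data.exists_field (h : Data G p q a b) :
    ∃ (K : Type) (_ : Field K) (_ : Fintype K), 3 < Fintype.card K ∧
      Nonempty (G ≃* Matrix.ProjectiveSpecialLinearGroup (Fin 2) K) := by
  classical
  haveI := h.isSimple
  haveI := Fintype.ofFinite (Sylow p G)
  have hn := h.card_sylow
  have ha4 := h.ha4
  have hqa := h.hqa
  have hex : ∀ P : Sylow p G, ∃ Q, Q ≠ P := fun P =>
    Fintype.exists_ne_of_one_lt_card (by rw [← Nat.card_eq_fintype_card, hn]; omega) P
  obtain ⟨P⟩ : Nonempty (Sylow p G) := inferInstance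
  obtain ⟨Q, hQ⟩ := hex P
  obtain ⟨g, hgK, hg1⟩ : ∃ g ∈ MulAction.stabilizer G P ⊓ MulAction.stabilizer G Q, g ≠ 1 := by
    refine (Subgroup.bot_or_exists_ne_one _).resolve_left fun e => ?_
    have := h.card_two hQ
    rw [e, Subgroup.card_bot] at this
    omega
  have hfaith : FaithfulSMul G (Sylow p G) := by
    refine ⟨fun {x y} hxy => ?_⟩
    have hker : (MulAction.toPermHom G (Sylow p G)).ker = ⊥ := by
      refine ((inferInstance : (MulAction.toPermHom G (Sylow p G)).ker.Normal).eq_bot_or_eq_top).resolve_right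
        fun e => hQ ?_
      obtain ⟨z, hz⟩ := MulAction.exists_smul_eq G P Q
      have := congrArg (fun σ : Equiv.Perm (Sylow p G) => σ P)
        (MonoidHom.mem_ker.1 (e ▸ Subgroup.mem_top z : z ∈ (MulAction.toPermHom G (Sylow p G)).ker))
      simp only [MulAction.toPermHom_apply, MulAction.toPerm_apply, Equiv.Perm.one_apply] at this
      exact hz.symm.trans this
    exact (MonoidHom.ker_eq_bot_iff _).1 hker (Equiv.ext hxy)
  have h2t : MulAction.IsMultiplyPretransitive G (Sylow p G) 2 := by
    rw [MulAction.is_two_pretransitive_iff]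
    intro A B C D hAB hCD
    obtain ⟨z, hz⟩ := MulAction.exists_smul_eq G A C
    obtain ⟨x, hx, hxD⟩ := h.exists_move (P := C) (Q := z • B) (R := D)
      (fun e => hAB (MulAction.injective z (hz.trans e.symm))) hCD.symm
    exact ⟨x * z, by rw [mul_smul, hz, smul_self hx], by rw [mul_smul, hxD]⟩
  have hthree : ∀ g : G, ∀ A B C : Sylow p G, A ≠ B → B ≠ C → A ≠ C →
      g • A = A → g • B = B → g • C = C → g = 1 := by
    intro g A B C hAB hBC hAC gA gB gC
    obtain ⟨w, hw, hwC⟩ := h.exists_move hAB.symm hAC.symm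
    have hw1 : w ≠ 1 := fun e => hBC (by rw [← hwC, e, one_smul])
    have hconj : g * w * g⁻¹ ∈ A :=
      (Subgroup.mem_normalizer_iff.1 (Sylow.smul_eq_iff_mem_normalizer.1 gA) w).1 hw
    have hfix : (w⁻¹ * (g * w * g⁻¹)) • B = B := by
      rw [mul_smul, mul_smul, mul_smul, inv_smul_eq_iff.2 gB.symm, hwC, gC, ← hwC, inv_smul_smul]
    have hcomm := inv_mul_eq_one.1 (h.free hAB.symm (mul_mem (inv_mem hw) hconj) hfix)
    have hgA : g ∈ A := h.mem_of_commute A hw hw1 (by
      show w * g = g * w
      conv_lhs => rw [hcomm]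
      rw [inv_mul_cancel_right])
    exact h.free hAB.symm hgA gB
  have hreg : ∀ N : Subgroup G, N.Normal → MulAction.IsPretransitive N (Sylow p G) →
      ∃ A : Sylow p G, MulAction.stabilizer N A ≠ ⊥ := by
    intro N hN htr
    refine ⟨P, fun e => ?_⟩
    rcases hN.eq_bot_or_eq_top with e0 | e0
    · subst e0
      obtain ⟨⟨z, hz⟩, hzQ⟩ := MulAction.exists_smul_eq (⊥ : Subgroup G) P Q
      rw [Subgroup.mem_bot] at hz
      subst hz
      exact hQ (by simpa using hzQ.symm)
    · subst e0
      have : (⟨g, Subgroup.mem_top g⟩ : (⊤ : Subgroup G)) ∈ (⊥ : Subgroup (⊤ : Subgroup G)) := e ▸ hgK.1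
      exact hg1 (congrArg Subtype.val (Subgroup.mem_bot.1 this))
  exact S0344.result (Ω := Sylow p G)
    ⟨hfaith, h2t, hthree, ⟨g, hg1, P, Q, hQ.symm, hgK.1, hgK.2⟩, hreg⟩ hQ.symm (by rw [h.card_two hQ]; exact h.ha)

end Cfsg.Agent.PSLDeg
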