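import Cfsg.Agent.PSLDeg.Degrees

/-!
A group with the character degrees of PSL(2, p^2), p odd, is simple.
-/

set_option autoImplicit false

namespace Cfsg.Agent.PSLDeg

open Cfsg Cfsg.Agent.Char

universe u

/-- Degree data: q = p^2 = 2u + 1 and v = u + 1. -/
structure Data (G : Type u) [Group G] (p q a b : ℕ) : Prop where
  prime : p.Prime
  hq : q = p ^ 2
  hqa : q = 2 * a + 1
  hb : b = a + 1
  ha : Even a
  ha4 : 4 ≤ a
  card : Nat.card G = 2 * a * b * q
  one : Nat.card {χ : IrrCharacter G // Cfsg.charDegree (χ : G → ℂ) = 1} = 1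
  st : Nat.card {χ : IrrCharacter G // Cfsg.charDegree (χ : G → ℂ) = q} = 1
  deg : ∀ χ : IrrCharacter G, Cfsg.charDegree (χ : G → ℂ) = 1 ∨ Cfsg.charDegree (χ : G → ℂ) = q ∨
    Cfsg.charDegree (χ : G → ℂ) = 2 * b ∨ Cfsg.charDegree (χ : G → ℂ) = 2 * a ∨ Cfsg.charDegree (χ : G → ℂ) = b

variable {G : Type u} [Group G] [Finite G] {p q a b : ℕ}

/-- The degrees split a sum of squares over any set of characters. -/
theorem Data.sum_split (h : Data G p q a b) (T : Finset (IrrCharacter G))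
    (htriv : ∃ χ ∈ T, dg χ = 1) :
    ∃ e x y z : ℕ, e ≤ 1 ∧ (0 < e → ∃ χ ∈ T, dg χ = q) ∧ (0 < y → ∃ χ ∈ T, dg χ = 2 * a) ∧
      (0 < x + z → ∃ χ ∈ T, dg χ = 2 * b ∨ dg χ = b) ∧
      ∑ χ ∈ T, dg χ ^ 2 = 1 + q ^ 2 * e + 4 * b ^ 2 * x + 4 * a ^ 2 * y + b ^ 2 * z := by
  classical
  obtain ⟨hqa, hb, ha4⟩ := And.intro h.hqa (And.intro h.hb h.ha4)
  have hpt : ∀ χ : IrrCharacter G, dg χ ^ 2 = (if dg χ = 1 then 1 else 0) + (if dg χ = q then q ^ 2 else 0) +
      (if dg χ = 2 * b then 4 * b ^ 2 else 0) + (if dg χ = 2 * a then 4 * a ^ 2 else 0) +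
      (if dg χ = b then b ^ 2 else 0) := by
    intro χ
    rcases h.deg χ with e | e | e | e | e <;> rw [show dg χ = _ from e] <;>
      simp (disch := omega) only [if_pos, if_neg, if_true] <;> ring
  have hle : ∀ d, Nat.card {χ : IrrCharacter G // dg χ = d} = 1 → (T.filter fun χ => dg χ = d).card ≤ 1 := by
    intro d hd
    rw [← hd, Nat.card_eq_fintype_card, Fintype.card_subtype]
    exact Finset.card_le_card (Finset.filter_subset_filter _ (Finset.subset_univ T))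
  have h1 : (T.filter fun χ => dg χ = 1).card = 1 := by
    refine le_antisymm (hle 1 h.one) ?_
    obtain ⟨χ, hχ, hd⟩ := htriv
    exact Finset.card_pos.2 ⟨χ, Finset.mem_filter.2 ⟨hχ, hd⟩⟩
  refine ⟨(T.filter fun χ => dg χ = q).card, (T.filter fun χ => dg χ = 2 * b).card,
    (T.filter fun χ => dg χ = 2 * a).card, (T.filter fun χ => dg χ = b).card, hle q h.st, ?_, ?_, ?_, ?_⟩
  · intro hc; obtain ⟨χ, hχ⟩ := Finset.card_pos.1 hc
    exact ⟨χ, Finset.mem_filter.1 hχ⟩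
  · intro hc; obtain ⟨χ, hχ⟩ := Finset.card_pos.1 hc
    exact ⟨χ, Finset.mem_filter.1 hχ⟩
  · intro hc
    rcases Nat.eq_zero_or_pos (T.filter fun χ => dg χ = 2 * b).card with h0 | h0
    · obtain ⟨χ, hχ⟩ := Finset.card_pos.1 (show 0 < (T.filter fun χ => dg χ = b).card by omega)
      exact ⟨χ, (Finset.mem_filter.1 hχ).1, Or.inr (Finset.mem_filter.1 hχ).2⟩
    · obtain ⟨χ, hχ⟩ := Finset.card_pos.1 h0
      exact ⟨χ, (Finset.mem_filter.1 hχ).1, Or.inl (Finset.mem_filter.1 hχ).2⟩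
  · rw [Finset.sum_congr rfl fun χ _ => hpt χ]
    simp only [Finset.sum_add_distrib, ← Finset.sum_filter, Finset.sum_const, smul_eq_mul, h1]
    ring

/-- The characters of a quotient. -/
theorem quotient_sum (M : Subgroup G) [M.Normal] :
    ∃ T : Finset (IrrCharacter G), (∑ χ ∈ T, dg χ ^ 2 = M.index) ∧ (∀ χ ∈ T, dg χ ∣ M.index) ∧
      ∃ χ ∈ T, dg χ = 1 := by
  classical
  refine ⟨Finset.univ.filter fun χ : IrrCharacter G => ∀ n ∈ M, (χ : G → ℂ) n = (χ : G → ℂ) 1, ?_, ?_, ?_⟩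
  · rw [Subgroup.index_eq_card, ← sum_dg_sq (G := G ⧸ M), Finset.sum_subtype
      (p := fun χ : IrrCharacter G => ∀ n ∈ M, (χ : G → ℂ) n = (χ : G → ℂ) 1) _ (fun χ => by simp)]
    refine (Fintype.sum_equiv (quotientEquiv M) _ _ fun φ => ?_).symm
    exact rfl
  · intro χ hχ
    obtain ⟨φ, hφ, he⟩ := IsIrr.exists_quotient M χ.2 (Finset.mem_filter.1 hχ).2
    rw [Subgroup.index_eq_card]
    refine IsIrr.degree_dvd_card hφ ?_
    rw [← QuotientGroup.mk_one, ← he, dg_spec]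
  · exact ⟨⟨fun _ => 1, isIrrCharacter_one⟩, by simp, by simp [dg, Cfsg.charDegree]⟩

/-- The arithmetic without the large degree. -/
theorem arith_zero {p a b x y z i : ℕ} (hpa : p ^ 2 = 2 * a + 1) (hb : b = a + 1) (ha : 4 ≤ a) (hp3 : 3 ≤ p)
    (hi : i = 1 + 4 * b ^ 2 * x + 4 * a ^ 2 * y + b ^ 2 * z) (hia : a ∣ i) (hib : b ∣ i)
    (hle : i ≤ 2 * a * b * p) : False := by
  obtain ⟨w, rfl⟩ : ∃ w, a = w + 1 := ⟨a - 1, by omega⟩
  subst hb
  have h1 : w + 1 + 1 ∣ 1 + 4 * y := by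
    rw [hi, show 1 + 4 * (w + 1 + 1) ^ 2 * x + 4 * (w + 1) ^ 2 * y + (w + 1 + 1) ^ 2 * z =
      (1 + 4 * y) + (w + 1 + 1) * (4 * (w + 1 + 1) * x + 4 * w * y + (w + 1 + 1) * z) by ring] at hib
    exact (Nat.dvd_add_left (Dvd.intro _ rfl)).1 hib
  have h2 : w + 1 ∣ 1 + 4 * x + z := by
    rw [hi, show 1 + 4 * (w + 1 + 1) ^ 2 * x + 4 * (w + 1) ^ 2 * y + (w + 1 + 1) ^ 2 * z =
      (1 + 4 * x + z) + (w + 1) * (4 * (w + 3) * x + 4 * (w + 1) * y + (w + 3) * z) by ring] at hia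
    exact (Nat.dvd_add_left (Dvd.intro _ rfl)).1 hia
  have e1 : w + 1 ≤ 4 * y := by have := Nat.le_of_dvd (by omega) h1; omega
  have e2 : w ≤ 4 * x + z := by have := Nat.le_of_dvd (by omega) h2; omega
  have e3 : 3 * p ≤ 2 * (w + 1) + 1 := by nlinarith
  have e4 : (w + 1) ^ 3 + w * (w + 1 + 1) ^ 2 < i := by
    have g1 : (w + 1) ^ 2 * (w + 1) ≤ (w + 1) ^ 2 * (4 * y) := Nat.mul_le_mul le_rfl e1
    have g2 : (w + 1 + 1) ^ 2 * w ≤ (w + 1 + 1) ^ 2 * (4 * x + z) := Nat.mul_le_mul le_rfl e2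
    nlinarith
  have e5 : 3 * i ≤ 2 * (w + 1) * (w + 1 + 1) * (2 * (w + 1) + 1) := by
    calc 3 * i ≤ 3 * (2 * (w + 1) * (w + 1 + 1) * p) := Nat.mul_le_mul le_rfl hle
      _ = 2 * (w + 1) * (w + 1 + 1) * (3 * p) := by ring
      _ ≤ _ := Nat.mul_le_mul le_rfl e3
  have hw : 3 ≤ w := by omega
  nlinarith [Nat.mul_le_mul (Nat.mul_le_mul hw hw) hw, Nat.mul_le_mul hw hw]

theorem Data.coprime_facts (h : Data G p q a b) :
    Nat.Coprime (2 * a) b ∧ Nat.Coprime q (2 * a * b) := by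
  obtain ⟨k, hk⟩ := h.ha
  have hqa := h.hqa
  have hb := h.hb
  have c1 : Nat.Coprime a b := by rw [hb]; simp [Nat.coprime_self_add_right]
  have c2 : Nat.Coprime 2 b := by rw [Nat.coprime_two_left, Nat.odd_iff]; omega
  refine ⟨c2.mul_left c1, Nat.Coprime.mul_right ?_ ?_⟩
  · rw [hqa, Nat.coprime_self_add_left]
    exact Nat.coprime_one_left _
  · have e : q + 1 = 2 * b := by omega
    exact Nat.Coprime.coprime_dvd_right (Dvd.intro_left 2 e.symm) (Nat.coprime_self_add_right.2 (Nat.coprime_one_right q))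

theorem Data.prime_odd (h : Data G p q a b) : 3 ≤ p := by
  have := h.prime.two_le
  rcases Nat.eq_or_lt_of_le this with e | e
  · exfalso; have h1 := h.hq; have h2 := h.hqa; have := h.ha4; subst e; omega
  · omega

/-- The group is simple. -/
theorem Data.isSimple (h : Data G p q a b) : IsSimpleGroup G := by
  classical
  have hcard := h.card
  have hqa := h.hqa
  have hb := h.hb
  have ha4 := h.ha4
  haveI : Nontrivial G := by
    rw [← Finite.one_lt_card_iff_nontrivial, hcard]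
    have : 0 < a * b * q := Nat.mul_pos (Nat.mul_pos (by omega) (by omega)) (by omega)
    nlinarith
  refine ⟨fun M hM => ?_⟩
  by_contra hne
  push Not at hne
  obtain ⟨T, hsum, hdvd, htriv⟩ := quotient_sum M
  obtain ⟨e, x, y, z, he, hE, hY, hX, heq⟩ := h.sum_split T htriv
  rw [hsum] at heq
  set i := M.index with hidef
  have hi1 : i ≠ 1 := fun hi => hne.2 (Subgroup.index_eq_one.1 hi)
  have hidvd : i ∣ 2 * a * b * q := hcard ▸ M.index_dvd_card
  have hfull : ¬ (2 * a * b * q ∣ i) := fun hd => by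
    refine hne.1 (Subgroup.eq_bot_of_card_eq _ ?_)
    have hie : i = Nat.card G := by rw [hcard]; exact Nat.dvd_antisymm hidvd hd
    have hm := M.card_mul_index
    rw [← hidef, hie] at hm
    exact (Nat.mul_eq_right Nat.card_pos.ne').1 hm
  have dA : 0 < y → 2 * a ∣ i := fun hy => by
    obtain ⟨χ, hχ, hd⟩ := hY hy; exact hd ▸ hdvd χ hχ
  have dB : 0 < x + z → b ∣ i := fun hx => by
    obtain ⟨χ, hχ, hd⟩ := hX hx
    rcases hd with hd | hd
    · exact dvd_trans (dvd_mul_left b 2) (hd ▸ hdvd χ hχ)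
    · exact hd ▸ hdvd χ hχ
  have dQ : 0 < e → q ∣ i := fun hq => by
    obtain ⟨χ, hχ, hd⟩ := hE hq; exact hd ▸ hdvd χ hχ
  obtain ⟨hcab, hcq⟩ := h.coprime_facts
  have hboth : 0 < y ∧ 0 < x + z := by
    by_contra hnb
    rcases Nat.eq_zero_or_pos y with hy | hy <;> rcases Nat.eq_zero_or_pos (x + z) with hx | hx
    · have hx0 : x = 0 := by omega
      have hz0 : z = 0 := by omega
      subst hy; subst hx0; subst hz0
      interval_cases e
      · simp only [mul_zero, add_zero] at heq; exact hi1 heq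
      · have h1 := dQ one_pos
        rw [heq] at h1
        simp only [mul_one, mul_zero, add_zero] at h1
        have h2 : q ∣ 1 := (Nat.dvd_add_left (dvd_pow_self q two_ne_zero)).1 h1
        have := Nat.dvd_one.1 h2
        omega
    · subst hy
      have h1 := dB hx
      rw [heq, hb, hqa] at h1
      interval_cases e
      · rw [show 1 + (2 * a + 1) ^ 2 * 0 + 4 * (a + 1) ^ 2 * x + 4 * a ^ 2 * 0 + (a + 1) ^ 2 * z =
          1 + (a + 1) * (4 * (a + 1) * x + (a + 1) * z) by ring] at h1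
        have := Nat.le_of_dvd one_pos ((Nat.dvd_add_left (Dvd.intro _ rfl)).1 h1)
        omega
      · rw [show 1 + (2 * a + 1) ^ 2 * 1 + 4 * (a + 1) ^ 2 * x + 4 * a ^ 2 * 0 + (a + 1) ^ 2 * z =
          2 + (a + 1) * (4 * a + 4 * (a + 1) * x + (a + 1) * z) by ring] at h1
        have := Nat.le_of_dvd two_pos ((Nat.dvd_add_left (Dvd.intro _ rfl)).1 h1)
        omega
    · have hx0 : x = 0 := by omega
      have hz0 : z = 0 := by omega
      subst hx0; subst hz0
      have h1 := dA hy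
      rw [heq, hqa] at h1
      interval_cases e
      · rw [show 1 + (2 * a + 1) ^ 2 * 0 + 4 * b ^ 2 * 0 + 4 * a ^ 2 * y + b ^ 2 * 0 =
          1 + (2 * a) * (2 * a * y) by ring] at h1
        have := Nat.le_of_dvd one_pos ((Nat.dvd_add_left (Dvd.intro _ rfl)).1 h1)
        omega
      · rw [show 1 + (2 * a + 1) ^ 2 * 1 + 4 * b ^ 2 * 0 + 4 * a ^ 2 * y + b ^ 2 * 0 =
          2 + (2 * a) * (2 * a + 2 + 2 * a * y) by ring] at h1
        have := Nat.le_of_dvd two_pos ((Nat.dvd_add_left (Dvd.intro _ rfl)).1 h1)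
        omega
    · exact hnb ⟨hy, hx⟩
  have hab : 2 * a * b ∣ i := Nat.Coprime.mul_dvd_of_dvd_of_dvd hcab (dA hboth.1) (dB hboth.2)
  interval_cases e
  · obtain ⟨j, hj⟩ := hab
    have hjq : j ∣ q := by
      rw [hj] at hidvd
      exact Nat.dvd_of_mul_dvd_mul_left (Nat.mul_pos (Nat.mul_pos two_pos (by omega)) (by omega)) hidvd
    rw [h.hq] at hjq
    obtain ⟨k, hk, hjk⟩ := (Nat.dvd_prime_pow h.prime).1 hjq
    have hjp : j ≤ p := by
      subst hjk
      have hk1 : k ≤ 1 := by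
        by_contra hk1
        obtain rfl : k = 2 := by omega
        exact hfull (by rw [hj, h.hq])
      exact (Nat.pow_le_pow_right h.prime.pos hk1).trans (pow_one p).le
    refine arith_zero (h.hq.symm.trans hqa) hb ha4 h.prime_odd (x := x) (y := y) (z := z) (i := i)
      (by rw [heq]; ring) ?_ ?_ ?_
    · exact dvd_trans (dvd_mul_left a 2) (dA hboth.1)
    · exact dB hboth.2
    · rw [hj]; exact Nat.mul_le_mul le_rfl hjp
  · exact hfull (mul_comm q (2 * a * b) ▸ Nat.Coprime.mul_dvd_of_dvd_of_dvd hcq (dQ one_pos) hab)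

end Cfsg.Agent.PSLDeg
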