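import Cfsg.Agent.PSLDeg.Simple
import Cfsg.Agent.Char.Artin
import Cfsg.Agent.Char.Integral

/-!
Defect zero congruences: every element of a group with the degrees of PSL(2, p^2) is a p-element or p-regular.
-/

set_option autoImplicit false

namespace Cfsg.Agent.PSLDeg

open Cfsg Cfsg.Agent.Char

universe u

variable {G : Type u} [Group G] [Finite G] {p q a b : ℕ}

/-- Vanishing by defect zero with respect to a coprime factor of the order. -/
theorem vanish_of_factor {χ : IrrCharacter G} {A B r : ℕ} (hA : A ≠ 0) (hr : r.Prime)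
    (hc : Nat.card G = A * B) (hco : Nat.Coprime A B) (hd : A ∣ dg χ) {y : G} (hrA : r ∣ A)
    (hy : r ∣ orderOf y) : (χ : G → ℂ) y = 0 := by
  classical
  have := Fintype.ofFinite G
  have hrB : ¬ r ∣ B := fun h => hr.ne_one (Nat.eq_one_of_dvd_coprimes hco hrA h)
  refine defect_zero χ.2 (n := A.factorization r) hr ?_ ?_ (dg_spec χ)
    ((Nat.ordProj_dvd A r).trans hd) y hy
  · rw [hc]; exact dvd_mul_of_dvd_left (Nat.ordProj_dvd A r) B
  · rw [hc]
    intro h
    exact Nat.pow_succ_factorization_not_dvd hA hr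
      ((((hr.coprime_iff_not_dvd.2 hrB)).pow_left _).dvd_of_dvd_mul_right h)

/-- The only linear character is trivial. -/
theorem Data.eq_one (h : Data G p q a b) (χ : IrrCharacter G) (hd : dg χ = 1) :
    χ = ⟨fun _ => 1, isIrrCharacter_one⟩ := by
  have hs := (Nat.card_eq_one_iff_unique.1 h.one).1
  exact congrArg Subtype.val (hs.elim (⟨χ, hd⟩ : {χ : IrrCharacter G // Cfsg.charDegree (χ : G → ℂ) = 1})
    ⟨⟨fun _ => 1, isIrrCharacter_one⟩, by simp [Cfsg.charDegree]⟩)

/-- The character of degree q does not vanish on an element of order divisible by another prime. -/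
theorem Data.st_ne_zero (h : Data G p q a b) {y : G} {r : ℕ} (hr : r.Prime) (hrp : r ≠ p)
    (hry : r ∣ orderOf y) {χ : IrrCharacter G} (hχ : dg χ = q) : (χ : G → ℂ) y ≠ 0 := by
  classical
  intro hzero
  obtain ⟨hcab, hcq⟩ := h.coprime_facts
  have hcard := h.card
  have ha4 := h.ha4
  have hb := h.hb
  have hne : y ≠ 1 := fun e => hr.ne_one (Nat.dvd_one.1 (by rwa [e, orderOf_one] at hry))
  have hrq : ¬ r ∣ q := by
    rw [h.hq]
    exact fun hd => hrp ((Nat.prime_dvd_prime_iff_eq hr h.prime).1 (hr.dvd_of_dvd_pow hd))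
  have hrab : r ∣ 2 * a * b := by
    have : r ∣ 2 * a * b * q := hcard ▸ hry.trans (orderOf_dvd_natCard y)
    exact (hr.dvd_mul.1 this).resolve_right hrq
  -- a modulus dividing all the non-vanishing degrees
  obtain ⟨m, hm2, hm⟩ : ∃ m, 2 ≤ m ∧ ∀ ψ : IrrCharacter G, dg ψ ≠ 1 → (ψ : G → ℂ) y = 0 ∨ m ∣ dg ψ := by
    have hst : ∀ ψ : IrrCharacter G, dg ψ = q → (ψ : G → ℂ) y = 0 := by
      intro ψ hψ
      have hs := (Nat.card_eq_one_iff_unique.1 h.st).1
      have e : ψ = χ := congrArg Subtype.val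
        (hs.elim (⟨ψ, hψ⟩ : {χ : IrrCharacter G // Cfsg.charDegree (χ : G → ℂ) = q}) ⟨χ, hχ⟩)
      rw [e]; exact hzero
    rcases hr.dvd_mul.1 hrab with hra | hrb
    · refine ⟨b, by omega, fun ψ hψ => ?_⟩
      rcases h.deg ψ with e | e | e | e | e
      · exact absurd e hψ
      · exact Or.inl (hst ψ e)
      · exact Or.inr ⟨2, e.trans (mul_comm 2 b)⟩
      · refine Or.inl (vanish_of_factor (A := 2 * a) (B := b * q) (by omega) hr (by rw [hcard]; ring) ?_
          (dvd_of_eq e.symm) hra hry)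
        exact Nat.Coprime.mul_right hcab (Nat.Coprime.coprime_mul_right_right hcq).symm
      · exact Or.inr (dvd_of_eq e.symm)
    · refine ⟨2 * a, by omega, fun ψ hψ => ?_⟩
      have hv : b ∣ dg ψ → (ψ : G → ℂ) y = 0 := fun hd =>
        vanish_of_factor (A := b) (B := 2 * a * q) (by omega) hr (by rw [hcard]; ring)
          (Nat.Coprime.mul_right hcab.symm (Nat.Coprime.coprime_mul_left_right hcq).symm) hd hrb hry
      rcases h.deg ψ with e | e | e | e | e
      · exact absurd e hψ
      · exact Or.inl (hst ψ e)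
      · exact Or.inl (hv ⟨2, e.trans (mul_comm 2 b)⟩)
      · exact Or.inr (dvd_of_eq e.symm)
      · exact Or.inl (hv (dvd_of_eq e.symm))
  -- the regular character
  let one' : IrrCharacter G := ⟨fun _ => 1, isIrrCharacter_one⟩
  have hreg := regular_eq_sum (G := G) y
  rw [if_neg hne, ← Finset.add_sum_erase _ _ (Finset.mem_univ one')] at hreg
  have hint : IsIntegral ℤ ((((1 : ℕ) : ℂ)) / m) := by
    have hm0 : (m : ℂ) ≠ 0 := Nat.cast_ne_zero.2 (by omega)
    have e : (((1 : ℕ) : ℂ)) / m =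
        -∑ ψ ∈ Finset.univ.erase one', (ψ : G → ℂ) 1 * (ψ : G → ℂ) y / m := by
      rw [← Finset.sum_div, ← neg_div]
      congr 1
      simp only [one', mul_one, Nat.cast_one] at hreg ⊢
      linear_combination hreg
    rw [e]
    refine IsIntegral.neg (IsIntegral.sum _ fun ψ hψ => ?_)
    have h1 : dg ψ ≠ 1 := fun hd => Finset.ne_of_mem_erase hψ (h.eq_one ψ hd)
    rcases hm ψ h1 with e0 | ⟨k, hk⟩
    · rw [e0, mul_zero, zero_div]; exact isIntegral_zero
    · rw [dg_spec, hk, Nat.cast_mul, mul_assoc, mul_div_cancel_left₀ _ hm0]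
      exact (isIntegral_algebraMap (R := ℤ) (A := ℂ) (x := (k : ℤ))).mul
        (IsChar.isIntegral (IsIrr.isCharacter ψ.2) y) |> fun z => by simpa using z
  have := nat_dvd_of_isIntegral (by omega) hint
  have := Nat.dvd_one.1 this
  omega

/-- Every element has order a power of p or prime to p. -/
theorem Data.prime_power_or (h : Data G p q a b) (y : G) (hp : p ∣ orderOf y) {r : ℕ} (hr : r.Prime)
    (hry : r ∣ orderOf y) : r = p := by
  by_contra hrp
  obtain ⟨⟨χ, hχ⟩⟩ := (Nat.card_eq_one_iff_unique.1 h.st).2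
  refine h.st_ne_zero hr hrp hry hχ ?_
  obtain ⟨hcab, hcq⟩ := h.coprime_facts
  exact vanish_of_factor (A := q) (B := 2 * a * b) (by have := h.hqa; omega) h.prime
    (by rw [h.card]; ring) hcq (dvd_of_eq (hχ : dg χ = q).symm) (by rw [h.hq]; exact dvd_pow_self p two_ne_zero) hp

end Cfsg.Agent.PSLDeg
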